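import Groth.Agent.AlgSt88.QuotStackGlue
import Groth.Agent.AlgSt88.QuotStackCover
import Groth.Prelude.Def_ChGrp

/-!
Points, pullbacks of actions, descent along maps with local sections, torsor morphisms.
-/

set_option autoImplicit false
set_option linter.style.haveILetI false
set_option backward.isDefEq.respectTransparency false
set_option backward.isDefEq.respectTransparency.types false
universe u

open CategoryTheory CategoryTheory.Limits MonoidalCategory CartesianMonoidalCategory MonObj GrpObj AlgebraicGeometry AlgSt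
open Groth.Agent.AlgSt88

noncomputable section

namespace Groth.Agent.QBal44

variable {S : Scheme.{u}} {G : Over S} [GrpObj G]

/-- A point of the group applied to a point. -/
abbrev app {X : Over S} (a : AlgGrp.Action G X) {T : Over S} (g : T ⟶ G) (x : T ⟶ X) : T ⟶ X :=
  lift g x ≫ a.act

theorem comp_app {X : Over S} (a : AlgGrp.Action G X) {T T' : Over S} (f : T' ⟶ T) (g : T ⟶ G) (x : T ⟶ X) :
    f ≫ app a g x = app a (f ≫ g) (f ≫ x) := by
  rw [app, app, comp_lift_assoc]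

theorem app_eqv {X Y : Over S} {a : AlgGrp.Action G X} {b : AlgGrp.Action G Y} {f : X ⟶ Y}
    (hf : a.act ≫ f = (G ◁ f) ≫ b.act) {T : Over S} (g : T ⟶ G) (x : T ⟶ X) :
    app a g x ≫ f = app b g (x ≫ f) := by
  rw [app, app, Category.assoc, hf, lift_whiskerLeft_assoc]

theorem eqv_of_app {X Y : Over S} {a : AlgGrp.Action G X} {b : AlgGrp.Action G Y} {f : X ⟶ Y}
    (hf : ∀ {T : Over S} (g : T ⟶ G) (x : T ⟶ X), app a g x ≫ f = app b g (x ≫ f)) :
    a.act ≫ f = (G ◁ f) ≫ b.act := by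
  refine AlgGrp.Action.hom_ext_lift₂ fun T g x => ?_
  rw [lift_whiskerLeft_assoc, ← Category.assoc]
  exact hf g x

theorem app_inv_app {X : Over S} (a : AlgGrp.Action G X) {T : Over S} (g : T ⟶ G) (x : T ⟶ X) :
    app a g⁻¹ (app a g x) = x := by
  rw [app, app, ← a.lift_mul_act, inv_mul_cancel, a.lift_one_act]

theorem app_app_inv {X : Over S} (a : AlgGrp.Action G X) {T : Over S} (g : T ⟶ G) (x : T ⟶ X) :
    app a g (app a g⁻¹ x) = x := by
  rw [app, app, ← a.lift_mul_act, mul_inv_cancel, a.lift_one_act]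

section Pseudo

variable {P T : Over S} {act : AlgGrp.Action G P} {π : P ⟶ T}
  (hc : IsPullback act.act (snd G P) π π)

include hc

theorem app_π {W : Over S} (g : W ⟶ G) (p : W ⟶ P) : app act g p ≫ π = p ≫ π := by
  rw [app, Category.assoc, hc.w, lift_snd_assoc]

theorem existsUnique_translate {W : Over S} (p p' : W ⟶ P) (h : p ≫ π = p' ≫ π) :
    ∃! g : W ⟶ G, app act g p = p' := by
  refine ⟨hc.lift p' p h.symm ≫ fst G P, ?_, fun g hg => ?_⟩
  · have e : lift (hc.lift p' p h.symm ≫ fst G P) p = hc.lift p' p h.symm :=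
      CartesianMonoidalCategory.hom_ext _ _ (lift_fst _ _) ((lift_snd _ _).trans (hc.lift_snd _ _ _).symm)
    change lift _ p ≫ act.act = p'
    rw [e, hc.lift_fst]
  · have e : lift g p = hc.lift p' p h.symm := by
      apply hc.hom_ext
      · rw [hc.lift_fst]; exact hg
      · rw [hc.lift_snd, lift_snd]
    rw [← e, lift_fst]

theorem app_inj {W : Over S} {g g' : W ⟶ G} (p : W ⟶ P) (h : app act g p = app act g' p) : g = g' :=
  (existsUnique_translate hc p _ (app_π hc g' p).symm).unique h rfl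

end Pseudo

/-- A commutative square is cartesian as soon as it is on points. -/
theorem isPullback_of_points {C : Type*} [Category C] {P X Y Z : C} {f : P ⟶ X} {g : P ⟶ Y} {p : X ⟶ Z}
    {q : Y ⟶ Z} (w : f ≫ p = g ≫ q)
    (h : ∀ {T : C} (a : T ⟶ X) (b : T ⟶ Y), a ≫ p = b ≫ q → ∃! l : T ⟶ P, l ≫ f = a ∧ l ≫ g = b) :
    IsPullback f g p q := by
  choose l hl hu using fun {T : C} (a : T ⟶ X) (b : T ⟶ Y) (e : a ≫ p = b ≫ q) => h a b e
  exact ⟨⟨w⟩, ⟨PullbackCone.IsLimit.mk w (fun s => l s.fst s.snd s.condition)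
    (fun s => (hl s.fst s.snd s.condition).1) (fun s => (hl s.fst s.snd s.condition).2)
    fun s m h1 h2 => hu s.fst s.snd s.condition m ⟨h1, h2⟩⟩⟩

section Image

variable {P T : Over S}

/-- The points of the target which lift. -/
def imgSieve (q : P ⟶ T) : Sieve T where
  arrows W t := ∃ σ : W ⟶ P, σ ≫ q = t
  downward_closed := by
    rintro W W' t ⟨σ, rfl⟩ g
    exact ⟨g ≫ σ, Category.assoc _ _ _⟩

theorem imgSieve_mem {K : Precoverage Scheme.{u}} (hK : K ≤ Scheme.fpqcPrecoverage) {q : P ⟶ T}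
    (hloc : NonAbH1.IsLocallyTrivialFor K (Over.mk q.left : Over T.left)) : IsFpqcSieve (imgSieve q) := by
  obtain ⟨R, hR, hsec⟩ := hloc
  refine mem_over_of_mem_fpqcPrecoverage (hK _ hR) fun W g hg => ?_
  obtain ⟨s, hs⟩ := hsec g hg
  change s ≫ q.left = g at hs
  refine ⟨Over.homMk s ?_, Over.OverMorphism.ext hs⟩
  change s ≫ P.hom = g ≫ T.hom
  rw [← hs, Category.assoc, Over.w q]

theorem imgSieve_pullback {P' T' : Over S} {q : P ⟶ T} {q' : P' ⟶ T'} {a : P' ⟶ P} {b : T' ⟶ T}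
    (h : IsPullback a q' q b) : imgSieve q' = (imgSieve q).pullback b := by
  ext W t
  constructor
  · rintro ⟨σ, rfl⟩
    exact ⟨σ ≫ a, by rw [Category.assoc, Category.assoc, h.w]⟩
  · rintro ⟨σ, hσ⟩
    exact ⟨h.lift σ t hσ, h.lift_snd _ _ _⟩

theorem imgSieve_mem_pullback {P' T' : Over S} {q : P ⟶ T} {q' : P' ⟶ T'} {a : P' ⟶ P} {b : T' ⟶ T}
    (h : IsPullback a q' q b) (hq : IsFpqcSieve (imgSieve q)) : IsFpqcSieve (imgSieve q') := by
  rw [imgSieve_pullback h]
  exact (Scheme.fpqcTopology.over S).pullback_stable b hq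

theorem epi_of_imgSieve {q : P ⟶ T} (hq : IsFpqcSieve (imgSieve q)) {Z : Over S} {k k' : T ⟶ Z}
    (h : q ≫ k = q ≫ k') : k = k' := by
  refine glue_hom_eq (𝟙 T) hq fun {W} t ht => ?_
  rw [Category.comp_id] at ht
  obtain ⟨σ, rfl⟩ := ht
  rw [Category.assoc, Category.assoc, h]

theorem desc_of_imgSieve {q : P ⟶ T} (hq : IsFpqcSieve (imgSieve q)) {Z : Over S} (ψ : P ⟶ Z)
    (hψ : ∀ {W : Over S} (p p' : W ⟶ P), p ≫ q = p' ≫ q → p ≫ ψ = p' ≫ ψ) : ∃ k : T ⟶ Z, q ≫ k = ψ := by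
  have key : ∀ {W : Over S} (t : W ⟶ T), imgSieve q (t ≫ 𝟙 T) → ∃ z : W ⟶ Z,
      ∀ σ : W ⟶ P, σ ≫ q = t → σ ≫ ψ = z := by
    intro W t ht
    rw [Category.comp_id] at ht
    obtain ⟨σ₀, h₀⟩ := ht
    exact ⟨σ₀ ≫ ψ, fun σ hσ => hψ σ σ₀ (hσ.trans h₀.symm)⟩
  choose f hf using @key
  obtain ⟨k, hk⟩ := glue_hom_exists (𝟙 T) hq f (fun {W W'} g t h h' => by
    have h1 : imgSieve q t := by rwa [Category.comp_id] at h
    obtain ⟨σ, hσ⟩ := h1
    rw [← hf t h σ hσ, ← hf (g ≫ t) h' (g ≫ σ) (by rw [Category.assoc, hσ]), Category.assoc])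
  refine ⟨k, ?_⟩
  have hm : imgSieve q (q ≫ 𝟙 T) := ⟨𝟙 P, by simp⟩
  rw [hk q hm, ← hf q hm (𝟙 P) (Category.id_comp _), Category.id_comp]

end Image

/-- The action on a fibre product of equivariant maps. -/
theorem exists_pullAct {A B Y P : Over S} {aA : AlgGrp.Action G A} {aB : AlgGrp.Action G B}
    {aY : AlgGrp.Action G Y} {f : A ⟶ Y} {g : B ⟶ Y} {t : P ⟶ A} {z : P ⟶ B}
    (hp : IsPullback t z f g) (hf : aA.act ≫ f = (G ◁ f) ≫ aY.act) (hg : aB.act ≫ g = (G ◁ g) ≫ aY.act) :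
    ∃ a : AlgGrp.Action G P, a.act ≫ t = (G ◁ t) ≫ aA.act ∧ a.act ≫ z = (G ◁ z) ≫ aB.act := by
  let act : G ⊗ P ⟶ P := hp.lift ((G ◁ t) ≫ aA.act) ((G ◁ z) ≫ aB.act) (by
    rw [Category.assoc, hf, Category.assoc, hg, ← MonoidalCategory.whiskerLeft_comp_assoc, hp.w,
      MonoidalCategory.whiskerLeft_comp_assoc])
  have h1 : act ≫ t = (G ◁ t) ≫ aA.act := hp.lift_fst _ _ _
  have h2 : act ≫ z = (G ◁ z) ≫ aB.act := hp.lift_snd _ _ _
  refine ⟨⟨act, ?_, ?_⟩, h1, h2⟩
  · apply hp.hom_ext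
    · rw [Category.assoc, h1, ← whisker_exchange_assoc, aA.one_act, leftUnitor_naturality]
    · rw [Category.assoc, h2, ← whisker_exchange_assoc, aB.one_act, leftUnitor_naturality]
  · apply hp.hom_ext
    · rw [Category.assoc, h1, Category.assoc, Category.assoc, h1, ← whisker_exchange_assoc, aA.mul_act,
        ← MonoidalCategory.whiskerLeft_comp_assoc, h1, MonoidalCategory.whiskerLeft_comp_assoc]
      simp
    · rw [Category.assoc, h2, Category.assoc, Category.assoc, h2, ← whisker_exchange_assoc, aB.mul_act,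
        ← MonoidalCategory.whiskerLeft_comp_assoc, h2, MonoidalCategory.whiskerLeft_comp_assoc]
      simp

/-- An equivariant map of torsors over a morphism of bases gives a cartesian square. -/
theorem isPullback_of_equivariant {P T Q U : Over S} {aP : AlgGrp.Action G P} {aQ : AlgGrp.Action G Q}
    {π : P ⟶ T} {π' : Q ⟶ U} (hP : IsPullback aP.act (snd G P) π π) (hQ : IsPullback aQ.act (snd G Q) π' π')
    (hs : IsFpqcSieve (imgSieve π)) {top : P ⟶ Q} {b : T ⟶ U} (w : top ≫ π' = π ≫ b)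
    (e : aP.act ≫ top = (G ◁ top) ≫ aQ.act) : IsPullback top π π' b := by
  refine isPullback_of_points w fun {W} q c hqc => ?_
  have uniq : ∀ {W' : Over S} {p p' : W' ⟶ P}, p ≫ top = p' ≫ top → p ≫ π = p' ≫ π → p = p' := by
    intro W' p p' h1 h2
    obtain ⟨g, hg, -⟩ := existsUnique_translate hP p p' h2
    have hg1 : g = 1 := app_inj hQ (p ≫ top) (by
      rw [← app_eqv e, hg, app, aQ.lift_one_act, h1])
    rw [← hg, hg1, app, aP.lift_one_act]
  have key : ∀ {W' : Over S} (t : W' ⟶ W), imgSieve π (t ≫ c) →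
      ∃ p : W' ⟶ P, p ≫ top = t ≫ q ∧ p ≫ π = t ≫ c := by
    rintro W' t ⟨σ, hσ⟩
    obtain ⟨g, hg, -⟩ := existsUnique_translate hQ (σ ≫ top) (t ≫ q)
      (by rw [Category.assoc, w, reassoc_of% hσ, Category.assoc, hqc])
    exact ⟨app aP g σ, by rw [app_eqv e, hg], by rw [app_π hP, hσ]⟩
  choose f hf1 hf2 using @key
  obtain ⟨l, hl⟩ := glue_hom_exists c hs f (fun {W₁ W₂} g t h h' =>
    uniq (by rw [Category.assoc, hf1, hf1, Category.assoc]) (by rw [Category.assoc, hf2, hf2, Category.assoc]))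
  refine ⟨l, ⟨?_, ?_⟩, ?_⟩
  · refine glue_hom_eq c hs fun {W'} t ht => ?_
    rw [← Category.assoc, hl t ht, hf1]
  · refine glue_hom_eq c hs fun {W'} t ht => ?_
    rw [← Category.assoc, hl t ht, hf2]
  · rintro l' ⟨h1, h2⟩
    refine glue_hom_eq c hs fun {W'} t ht => ?_
    rw [hl t ht]
    exact uniq (by rw [Category.assoc, h1, hf1]) (by rw [Category.assoc, h2, hf2])

/-- Local triviality is stable under base change. -/
theorem isLocallyTrivialFor_pullback {K : Precoverage Scheme.{u}} [K.IsStableUnderBaseChange]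
    {P T P' T' : Scheme.{u}} {q : P ⟶ T} {q' : P' ⟶ T'} {a : P' ⟶ P} {b : T' ⟶ T} (h : IsPullback a q' q b)
    (hq : NonAbH1.IsLocallyTrivialFor K (Over.mk q)) : NonAbH1.IsLocallyTrivialFor K (Over.mk q') := by
  obtain ⟨R, hR, hsec⟩ := hq
  refine ⟨_, Precoverage.pullbackArrows_mem b hR, ?_⟩
  rintro S' f ⟨Z, g, hg⟩
  obtain ⟨s, hs⟩ := hsec g hg
  change s ≫ q = g at hs
  refine ⟨h.lift (pullback.fst g b ≫ s) (pullback.snd g b) ?_, h.lift_snd _ _ _⟩
  rw [Category.assoc, hs, pullback.condition]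

end Groth.Agent.QBal44
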