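import Groth.Agent.QBal44.Functor
import Groth.Agent.AlgSt88.QuotStack
import Groth.Agent.AlgSt88.QuotTriv
import Groth.Agent.Fib44.StackEquiv
import Groth.Agent.Fib44.Equiv

/-!
The quotient stack of a balanced product is the quotient stack by the subgroup.
-/

set_option autoImplicit false
set_option linter.style.haveILetI false
set_option backward.isDefEq.respectTransparency false
set_option backward.isDefEq.respectTransparency.types false
universe u

open CategoryTheory CategoryTheory.Limits MonoidalCategory CartesianMonoidalCategory MonObj GrpObj AlgebraicGeometry AlgSt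
open Groth.Agent.AlgSt88

noncomputable section

namespace Groth.Agent.QBal44

variable {S : Scheme.{u}} {G H Z Y : Over S} [GrpObj G] [GrpObj H] {K : Precoverage Scheme.{u}}
  [K.IsStableUnderBaseChange] [K.IsStableUnderComposition]
  {i : H ⟶ G} [IsMonHom i] [Mono i] {aZ : AlgGrp.Action H Z}
  {aY : AlgGrp.Action G Y} {j : G ⊗ Z ⟶ Y}

/-- The translates of the fibre. -/
def qMap (j : G ⊗ Z ⟶ Y) (A : QuotObj K G aY) : G ⊗ pullback A.φ (iota j) ⟶ A.P :=
  (G ◁ pullback.fst A.φ (iota j)) ≫ A.act.act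

theorem lift_qMap {A : QuotObj K G aY} {T : Over S} (g : T ⟶ G) (p : T ⟶ pullback A.φ (iota j)) :
    lift g p ≫ qMap j A = app A.act g (p ≫ pullback.fst A.φ (iota j)) :=
  lift_whiskerLeft_assoc _ _ _ _

theorem imgSieve_qMap_mem (hK : K ≤ Scheme.fpqcPrecoverage) (hY : ChGrp.IsBalProd K i aZ aY j) (A : QuotObj K G aY) :
    IsFpqcSieve (imgSieve (qMap j A)) := by
  refine (Scheme.fpqcTopology.over S).superset_covering ?_
    ((Scheme.fpqcTopology.over S).pullback_stable A.φ (imgSieve_mem hK hY.2.2))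
  rintro W t ⟨σ, hσ⟩
  have h1 : lift (σ ≫ fst G Z) (σ ≫ snd G Z) = σ := by rw [← comp_lift, lift_fst_snd, Category.comp_id]
  have h2 : app aY (σ ≫ fst G Z) ((σ ≫ snd G Z) ≫ iota j) = t ≫ A.φ := by rw [← lift_j hY, h1, hσ]
  refine ⟨lift (σ ≫ fst G Z) (pullback.lift (app A.act (σ ≫ fst G Z)⁻¹ t) (σ ≫ snd G Z)
    (by rw [app_eqv A.eqv, ← h2, app_inv_app])), ?_⟩
  rw [lift_qMap, pullback.lift_fst, app_app_inv]

theorem fiberFun_faithful (hK : K ≤ Scheme.fpqcPrecoverage) (hY : ChGrp.IsBalProd K i aZ aY j) :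
    (fiberFun hK hY).toFunctor.Faithful where
  map_injective {A B} {m m'} e := by
    refine QuotObj.hom_ext (congrArg (fun t => t.base) e) (epi_of_imgSieve (imgSieve_qMap_mem hK hY A) ?_)
    have h1 : fTop j m = fTop j m' := congrArg (fun t => t.top) e
    have h2 : pullback.fst A.φ (iota j) ≫ m.top = pullback.fst A.φ (iota j) ≫ m'.top := by
      rw [← fTop_fst (j := j), h1, fTop_fst]
    refine AlgGrp.Action.hom_ext_lift₂ fun T g p => ?_
    rw [← Category.assoc, lift_qMap, app_eqv m.eqv, ← Category.assoc (lift g p) _ m'.top, lift_qMap,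
      app_eqv m'.eqv, Category.assoc, h2, Category.assoc]

theorem fiberFun_full (hK : K ≤ Scheme.fpqcPrecoverage) (hY : ChGrp.IsBalProd K i aZ aY j) :
    (fiberFun hK hY).toFunctor.Full where
  map_surjective {A B} n := by
    let nt : pullback A.φ (iota j) ⟶ pullback B.φ (iota j) := n.top
    let nb : A.base ⟶ B.base := n.base
    have ne : (fAct hY A).act ≫ nt = (H ◁ nt) ≫ (fAct hY B).act := n.eqv
    have nw : nt ≫ pullback.fst B.φ (iota j) ≫ B.π = (pullback.fst A.φ (iota j) ≫ A.π) ≫ nb := n.cart.w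
    have nφ : nt ≫ pullback.snd B.φ (iota j) = pullback.snd A.φ (iota j) := n.wφ
    let ψ : G ⊗ pullback A.φ (iota j) ⟶ B.P := (G ◁ (nt ≫ pullback.fst B.φ (iota j))) ≫ B.act.act
    have lψ : ∀ {T : Over S} (g : T ⟶ G) (p : T ⟶ pullback A.φ (iota j)),
        lift g p ≫ ψ = app B.act g (p ≫ nt ≫ pullback.fst B.φ (iota j)) := fun g p => lift_whiskerLeft_assoc _ _ _ _
    have hcons : ∀ {W : Over S} (p p' : W ⟶ G ⊗ pullback A.φ (iota j)),
        p ≫ qMap j A = p' ≫ qMap j A → p ≫ ψ = p' ≫ ψ := by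
      intro W p p' h
      obtain ⟨g, x, rfl⟩ : ∃ (g : W ⟶ G) (x : W ⟶ pullback A.φ (iota j)), p = lift g x :=
        ⟨p ≫ fst _ _, p ≫ snd _ _, by rw [← comp_lift, lift_fst_snd, Category.comp_id]⟩
      obtain ⟨g', x', rfl⟩ : ∃ (g : W ⟶ G) (x : W ⟶ pullback A.φ (iota j)), p' = lift g x :=
        ⟨p' ≫ fst _ _, p' ≫ snd _ _, by rw [← comp_lift, lift_fst_snd, Category.comp_id]⟩
      rw [lift_qMap, lift_qMap] at h
      have hb := congrArg (· ≫ A.π) h
      simp only [app_π A.cart] at hb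
      obtain ⟨k, hk, -⟩ := existsUnique_translate (fAct_cart hY A) x x' (by simpa [Category.assoc] using hb)
      subst hk
      rw [fAct_fst] at h
      change app A.act g _ = lift g' (lift (k ≫ i) _ ≫ A.act.act) ≫ A.act.act at h
      rw [← A.act.lift_mul_act] at h
      obtain rfl : g = g' * (k ≫ i) := app_inj A.cart _ h
      rw [lψ, lψ, ← Category.assoc (app (fAct hY A) k x), app_eqv ne, fAct_fst, Category.assoc, app,
        B.act.lift_mul_act]
    obtain ⟨top, htop⟩ := desc_of_imgSieve (imgSieve_qMap_mem hK hY A) ψ hcons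
    have hq : ∀ {T : Over S} (g : T ⟶ G) (p : T ⟶ pullback A.φ (iota j)),
        app A.act g (p ≫ pullback.fst A.φ (iota j)) ≫ top = app B.act g (p ≫ nt ≫ pullback.fst B.φ (iota j)) := by
      intro T g p
      rw [← lift_qMap, Category.assoc, htop, lψ]
    have w : top ≫ B.π = A.π ≫ nb := by
      refine epi_of_imgSieve (imgSieve_qMap_mem hK hY A) (AlgGrp.Action.hom_ext_lift₂ fun T g p => ?_)
      rw [← Category.assoc, lift_qMap, ← Category.assoc, hq, app_π B.cart, ← Category.assoc (lift g p),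
        lift_qMap, ← Category.assoc (app A.act g _) A.π, app_π A.cart]
      simp only [Category.assoc, nw]
    have wφ : top ≫ B.φ = A.φ := by
      refine epi_of_imgSieve (imgSieve_qMap_mem hK hY A) (AlgGrp.Action.hom_ext_lift₂ fun T g p => ?_)
      rw [← Category.assoc, lift_qMap, ← Category.assoc, hq, app_eqv B.eqv, ← Category.assoc (lift g p),
        lift_qMap, app_eqv A.eqv, Category.assoc, Category.assoc, pullback.condition, reassoc_of% nφ,
        Category.assoc, pullback.condition]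
    have eqv : A.act.act ≫ top = (G ◁ top) ≫ B.act.act := by
      refine epi_of_imgSieve (imgSieve_mem_pullback (isPullback_whiskerLeft (qMap j A)).flip
        (imgSieve_qMap_mem hK hY A)) (AlgGrp.Action.hom_ext_lift₂ fun T g x => ?_)
      obtain ⟨g', p, rfl⟩ : ∃ (g : T ⟶ G) (p : T ⟶ pullback A.φ (iota j)), x = lift g p :=
        ⟨x ≫ fst _ _, x ≫ snd _ _, by rw [← comp_lift, lift_fst_snd, Category.comp_id]⟩
      rw [lift_whiskerLeft_assoc, lift_whiskerLeft_assoc, lift_qMap, lift_whiskerLeft_assoc, hq,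
        ← Category.assoc (lift g _)]
      change (lift g (lift g' _ ≫ A.act.act) ≫ A.act.act) ≫ top = lift g (lift g' _ ≫ B.act.act) ≫ B.act.act
      rw [← A.act.lift_mul_act, ← B.act.lift_mul_act]
      exact hq _ _
    refine ⟨{ base := nb, top := top, eqv := eqv
              cart := isPullback_of_equivariant A.cart B.cart (imgSieve_mem hK A.loc) w eqv
              wφ := wφ }, QuotObj.hom_ext rfl (pullback.hom_ext ?_ ?_)⟩
    · change pullback.lift _ _ _ ≫ pullback.fst B.φ (iota j) = nt ≫ pullback.fst B.φ (iota j)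
      rw [pullback.lift_fst]
      have h := hq (1 : pullback A.φ (iota j) ⟶ G) (𝟙 _)
      rw [Category.id_comp, Category.id_comp, app, A.act.lift_one_act, app, B.act.lift_one_act] at h
      exact h
    · change pullback.lift _ _ _ ≫ pullback.snd B.φ (iota j) = nt ≫ pullback.snd B.φ (iota j)
      rw [pullback.lift_snd, nφ]

theorem exists_triv_fiber [K.HasIsos] (hK : K ≤ Scheme.fpqcPrecoverage) (hG : IsAffineHom G.hom)
    (hY : ChGrp.IsBalProd K i aZ aY j) {T : Over S} (z : T ⟶ Z) :
    ∃ (x : QuotObj K G aY) (h : (fObj hY x).base = T)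
      (k : fObj hY x ⟶ (quotMap K H aZ).obj ((ofOverCat Z).obj (Over.mk z))), k.base = eqToHom h := by
  let A : QuotObj K G aY := (quotMap K G aY).obj ((ofOverCat Y).obj (Over.mk (z ≫ iota j)))
  let Q : QuotObj K H aZ := (quotMap K H aZ).obj ((ofOverCat Z).obj (Over.mk z))
  let c : H ⊗ T ⟶ pullback A.φ (iota j) := pullback.lift (lift (fst H T ≫ i) (snd H T)) ((H ◁ z) ≫ aZ.act) (by
    change lift (fst H T ≫ i) (snd H T) ≫ (G ◁ (z ≫ iota j)) ≫ aY.act = _
    rw [lift_whiskerLeft_assoc]
    refine AlgGrp.Action.hom_ext_lift₂ fun W h t => ?_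
    rw [comp_lift_assoc, lift_fst_assoc, lift_snd_assoc, ← Category.assoc (lift h t), lift_whiskerLeft_assoc]
    change app aY (h ≫ i) (t ≫ z ≫ iota j) = app aZ h (t ≫ z) ≫ iota j
    rw [app_eqv (iota_eqv hY), app_restrict, Category.assoc])
  have e : (leftMul H T).act ≫ c = (H ◁ c) ≫ (fAct hY A).act := by
    refine eqv_of_app fun {W} h x => ?_
    obtain ⟨h', t, rfl⟩ : ∃ (h' : W ⟶ H) (t : W ⟶ T), x = lift h' t :=
      ⟨x ≫ fst _ _, x ≫ snd _ _, by rw [← comp_lift, lift_fst_snd, Category.comp_id]⟩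
    rw [app, leftMul_lift]
    apply pullback.hom_ext
    · rw [fAct_fst, Category.assoc, Category.assoc, pullback.lift_fst, comp_lift, comp_lift]
      change _ = lift (h ≫ i) (lift _ _) ≫ (leftMul G T).act
      rw [leftMul_lift]
      simp [MonObj.mul_comp]
      exact congrArg _ ((lift_snd _ _).trans (lift_snd _ _).symm)
    · rw [fAct_snd, Category.assoc, Category.assoc, pullback.lift_snd, lift_whiskerLeft_assoc, lift_whiskerLeft_assoc]
      exact aZ.lift_mul_act _ _ _
  let n : Q ⟶ fObj hY A :=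
    { base := 𝟙 T
      top := c
      eqv := e
      cart := isPullback_of_equivariant Q.cart (fObj hY A).cart (imgSieve_mem hK Q.loc) (by
        change c ≫ pullback.fst A.φ (iota j) ≫ snd G T = snd H T ≫ 𝟙 T
        rw [pullback.lift_fst_assoc, lift_snd, Category.comp_id]) e
      wφ := pullback.lift_snd _ _ _ }
  haveI : (QuotSt K H aZ).p.IsHomLift (𝟙 T) n := IsHomLift.of_fac' _ _ _ rfl rfl (by
    simp; rfl)
  haveI := Fib44.isIso_of_fibGrpd (QuotSt K H aZ).p (isFibGrpd_quotSt aZ) (𝟙 T) n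
  refine ⟨A, rfl, inv n, ?_⟩
  have h := congrArg (fun t => t.base) (IsIso.inv_hom_id n)
  change (inv n).base ≫ 𝟙 T = 𝟙 T at h
  exact (Category.comp_id _).symm.trans h

omit [K.IsStableUnderBaseChange] [K.IsStableUnderComposition] in
/-- A closed subgroup of an affine group is affine. -/
theorem isAffineHom_sub [IsClosedImmersion i.left] (hG : IsAffineHom G.hom) : IsAffineHom H.hom := by
  rw [← Over.w i]; infer_instance

/-- The quotient of a balanced product is the quotient by the subgroup. -/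
theorem isQuotientOf_balProd [IsClosedImmersion i.left] (hG : IsAffineHom G.hom)
    (hY : ChGrp.IsBalProd Scheme.fppfPrecoverage i aZ aY j) :
    IsQuotientOf Scheme.fppfPrecoverage H aZ (QuotSt Scheme.fppfPrecoverage G aY) := by
  have hK := Scheme.fppfPrecoverage_le_fpqcPrecoverage.{u}
  haveI := fiberFun_faithful hK hY
  haveI := fiberFun_full hK hY
  suffices hF : FibCat.IsEquivOver (fiberFun hK hY) by
    obtain ⟨e, he, -, -⟩ := Fib44.exists_inverse hF
    exact ⟨e, he⟩
  refine Fib44.isEquivOver_of_locally_essSurj (isStack_quotSt hK hG aY)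
    (Fib44.isPrestack_of_isStack (isStack_quotSt hK (isAffineHom_sub (i := i) hG) aZ)) _ fun y => ?_
  let R : Sieve y.base :=
    { arrows := fun V f => ∃ (x : QuotObj Scheme.fppfPrecoverage G aY) (φ : (fiberFun hK hY).obj x ⟶ y),
        (QuotSt Scheme.fppfPrecoverage H aZ).p.IsHomLift f φ
      downward_closed := by
        rintro V V' f ⟨x, φ, hφ⟩ g
        obtain ⟨x', ψ, hψ⟩ := Fib44.exists_lift' (QuotSt Scheme.fppfPrecoverage G aY).p (isFibGrpd_quotSt aY)
          (x := x) (((fiberFun hK hY).w_obj x).symm.trans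
            (IsHomLift.domain_eq (QuotSt Scheme.fppfPrecoverage H aZ).p f φ)) g
        haveI : (QuotSt Scheme.fppfPrecoverage H aZ).p.IsHomLift g ((fiberFun hK hY).map ψ) :=
          (fiberFun hK hY).preserves_isHomLift g ψ
        exact ⟨x', (fiberFun hK hY).map ψ ≫ φ, inferInstance⟩ }
  refine ⟨R, ?_, fun V f hf => hf⟩
  obtain ⟨R₀, hR₀, hl⟩ := exists_triv_hom aZ y
  rw [QuotSh.J, GrothendieckTopology.mem_over_iff]
  refine Precoverage.mem_toGrothendieck_iff_of_isStableUnderComposition.2 ⟨R₀, hR₀, ?_⟩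
  intro W g hg
  obtain ⟨z, h, hh⟩ := hl g hg
  obtain ⟨x, hb, k, hk⟩ := exists_triv_fiber hK hG hY z
  refine ⟨Over.mk (g ≫ y.base.hom), Over.homMk g rfl, 𝟙 _, ⟨x, k ≫ h, ?_⟩, ?_⟩
  · refine IsHomLift.of_fac' _ _ _ hb rfl ?_
    change (k ≫ h).base = _
    rw [QuotObj.comp_base, hk, hh]
    simp
  · simp

end Groth.Agent.QBal44
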