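import Groth.Agent.QBal44.Basic

/-!
The functor from torsors with an equivariant map to a balanced product to torsors of the subgroup.
-/

set_option autoImplicit false
set_option linter.style.haveILetI false
set_option backward.isDefEq.respectTransparency false
set_option backward.isDefEq.respectTransparency.types false
universe u

open CategoryTheory CategoryTheory.Limits MonoidalCategory CartesianMonoidalCategory MonObj GrpObj AlgebraicGeometry AlgSt
open Groth.Agent.AlgSt88

noncomputable section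

namespace Groth.Agent.QBal44

variable {S : Scheme.{u}} {G H Z Y : Over S} [GrpObj G] [GrpObj H]

theorem app_restrict {X : Over S} (i : H ⟶ G) [IsMonHom i] (a : AlgGrp.Action G X) {T : Over S} (h : T ⟶ H)
    (x : T ⟶ X) : app (a.restrict i) h x = app a (h ≫ i) x :=
  a.lift_restrict_act i h x

/-- The inclusion of the fibre over the unit. -/
def iota (j : G ⊗ Z ⟶ Y) : Z ⟶ Y := lift (1 : Z ⟶ G) (𝟙 Z) ≫ j

theorem comp_iota (j : G ⊗ Z ⟶ Y) {T : Over S} (z : T ⟶ Z) : z ≫ iota j = lift (1 : T ⟶ G) z ≫ j := by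
  rw [iota, comp_lift_assoc, Category.comp_id, MonObj.comp_one]

section Balanced

variable {K : Precoverage Scheme.{u}} {i : H ⟶ G} [IsMonHom i] {aZ : AlgGrp.Action H Z}
  {aY : AlgGrp.Action G Y} {j : G ⊗ Z ⟶ Y} (hY : ChGrp.IsBalProd K i aZ aY j)

include hY

theorem lift_j {T : Over S} (g : T ⟶ G) (z : T ⟶ Z) : lift g z ≫ j = app aY g (z ≫ iota j) := by
  have h := app_eqv hY.1 g (lift (1 : T ⟶ G) z)
  rw [app, AlgGrp.Action.lift_prod_act] at h
  change lift (lift g 1 ≫ μ[G]) (lift g z ≫ snd G Z) ≫ j = _ at h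
  rw [← Hom.mul_def, _root_.mul_one, lift_snd] at h
  rw [h, comp_iota]

theorem lift_j_rel {T : Over S} (h : T ⟶ H) (g : T ⟶ G) (z : T ⟶ Z) :
    lift (g * (h ≫ i)⁻¹) (app aZ h z) ≫ j = lift g z ≫ j := by
  rw [← ChGrp.lift_twist_act i aZ h g z, Category.assoc, hY.2.1.w, lift_snd_assoc]

theorem exists_rel {T : Over S} {g g' : T ⟶ G} {z z' : T ⟶ Z} (e : lift g z ≫ j = lift g' z' ≫ j) :
    ∃ h : T ⟶ H, g * (h ≫ i)⁻¹ = g' ∧ app aZ h z = z' := by
  obtain ⟨h, hh, -⟩ := existsUnique_translate hY.2.1 (lift g z) (lift g' z') e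
  rw [app, ChGrp.lift_twist_act] at hh
  exact ⟨h, by simpa using congrArg (· ≫ fst G Z) hh, by simpa using congrArg (· ≫ snd G Z) hh⟩

theorem iota_eqv : aZ.act ≫ iota j = (H ◁ iota j) ≫ (aY.restrict i).act := by
  refine eqv_of_app fun {T} h z => ?_
  rw [app_restrict, ← lift_j hY, comp_iota, ← lift_j_rel hY h (h ≫ i) z, mul_inv_cancel]

theorem exists_rel_iota {T : Over S} {g : T ⟶ G} {z z' : T ⟶ Z} (e : app aY g (z ≫ iota j) = z' ≫ iota j) :
    ∃ h : T ⟶ H, h ≫ i = g ∧ app aZ h z = z' := by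
  rw [← lift_j hY, comp_iota] at e
  obtain ⟨h, h1, h2⟩ := exists_rel hY e
  exact ⟨h, (mul_inv_eq_one.1 h1).symm, h2⟩

variable (A : QuotObj K G aY)

theorem exists_fAct : ∃ a : AlgGrp.Action H (pullback A.φ (iota j)),
    a.act ≫ pullback.fst A.φ (iota j) = (H ◁ pullback.fst A.φ (iota j)) ≫ (A.act.restrict i).act ∧
      a.act ≫ pullback.snd A.φ (iota j) = (H ◁ pullback.snd A.φ (iota j)) ≫ aZ.act := by
  refine exists_pullAct (aY := aY.restrict i) (IsPullback.of_hasPullback _ _) ?_ (iota_eqv hY)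
  refine eqv_of_app fun {T} h x => ?_
  rw [app_restrict, app_restrict, app_eqv A.eqv]

/-- The action of the subgroup on the fibre. -/
def fAct : AlgGrp.Action H (pullback A.φ (iota j)) := (exists_fAct hY A).choose

theorem fAct_fst {T : Over S} (h : T ⟶ H) (p : T ⟶ pullback A.φ (iota j)) :
    app (fAct hY A) h p ≫ pullback.fst A.φ (iota j) = app A.act (h ≫ i) (p ≫ pullback.fst A.φ (iota j)) := by
  rw [app_eqv (exists_fAct hY A).choose_spec.1 (a := fAct hY A), app_restrict]

theorem fAct_snd {T : Over S} (h : T ⟶ H) (p : T ⟶ pullback A.φ (iota j)) :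
    app (fAct hY A) h p ≫ pullback.snd A.φ (iota j) = app aZ h (p ≫ pullback.snd A.φ (iota j)) :=
  app_eqv (exists_fAct hY A).choose_spec.2 h p

theorem fAct_cart [Mono i] : IsPullback (fAct hY A).act (snd H _) (pullback.fst A.φ (iota j) ≫ A.π)
    (pullback.fst A.φ (iota j) ≫ A.π) := by
  refine isPullback_of_points (AlgGrp.Action.hom_ext_lift₂ fun T h p => ?_) fun {T} a b e => ?_
  · rw [lift_snd_assoc, ← Category.assoc (lift h p)]
    change app (fAct hY A) h p ≫ _ = _
    rw [← Category.assoc (app _ _ _), fAct_fst, app_π A.cart, Category.assoc]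
  obtain ⟨g, hg, -⟩ := existsUnique_translate A.cart (b ≫ pullback.fst A.φ (iota j)) (a ≫ pullback.fst A.φ (iota j))
    (by rw [Category.assoc, Category.assoc, e])
  have h1 := congrArg (· ≫ A.φ) hg
  simp only [app_eqv A.eqv, Category.assoc, pullback.condition] at h1
  rw [← Category.assoc b, ← Category.assoc a] at h1
  obtain ⟨h, rfl, h2⟩ := exists_rel_iota hY h1
  refine ⟨lift h b, ⟨?_, lift_snd _ _⟩, ?_⟩
  · apply pullback.hom_ext
    · change app (fAct hY A) h b ≫ _ = _
      rw [fAct_fst, hg]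
    · change app (fAct hY A) h b ≫ _ = _
      rw [fAct_snd, h2]
  · rintro l ⟨l1, l2⟩
    have el : l = lift (l ≫ fst H _) b := by
      rw [← l2, ← comp_lift, lift_fst_snd, Category.comp_id]
    rw [el]
    congr 1
    rw [← cancel_mono i]
    refine app_inj A.cart (b ≫ pullback.fst A.φ (iota j)) ?_
    rw [hg, ← fAct_fst hY A, app, ← el, l1]

theorem fLoc [K.IsStableUnderBaseChange] [K.IsStableUnderComposition] :
    NonAbH1.IsLocallyTrivialFor K (Over.mk (pullback.fst A.φ (iota j) ≫ A.π).left : Over A.base.left) := by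
  obtain ⟨R, hR, hsec⟩ := A.loc
  refine loc_of_cover _ hR fun W g hg => ?_
  obtain ⟨s, hs⟩ := hsec g hg
  change s ≫ A.π.left = g at hs
  let T : Over S := Over.mk (g ≫ A.base.hom)
  let σ : T ⟶ A.P := Over.homMk s (by
    change s ≫ A.P.hom = g ≫ A.base.hom
    rw [← hs, Category.assoc, Over.w A.π])
  have hσ : σ ≫ A.π = Over.homMk g rfl := Over.OverMorphism.ext hs
  let gp := pullback.fst j (σ ≫ A.φ) ≫ fst G Z
  let zp := pullback.fst j (σ ≫ A.φ) ≫ snd G Z
  have e : app aY gp (zp ≫ iota j) = (pullback.snd j (σ ≫ A.φ) ≫ σ) ≫ A.φ := by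
    rw [← lift_j hY, ← comp_lift, lift_fst_snd, Category.comp_id, pullback.condition, Category.assoc]
  let m : pullback j (σ ≫ A.φ) ⟶ pullback A.φ (iota j) :=
    pullback.lift (app A.act gp⁻¹ (pullback.snd j (σ ≫ A.φ) ≫ σ)) zp (by rw [app_eqv A.eqv, ← e, app_inv_app])
  refine ⟨(pullback j (σ ≫ A.φ)).left, (pullback.snd j (σ ≫ A.φ)).left, m.left, ?_,
    isLocallyTrivialFor_pullback ((IsPullback.of_hasPullback j (σ ≫ A.φ)).map (Over.forget S)) hY.2.2⟩
  have h : m ≫ pullback.fst A.φ (iota j) ≫ A.π = pullback.snd j (σ ≫ A.φ) ≫ Over.homMk g rfl := by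
    rw [pullback.lift_fst_assoc, app_π A.cart, Category.assoc, hσ]
  exact congrArg CommaMorphism.left h

end Balanced

variable {K : Precoverage Scheme.{u}} [K.IsStableUnderBaseChange] [K.IsStableUnderComposition]
  {i : H ⟶ G} [IsMonHom i] [Mono i] {aZ : AlgGrp.Action H Z}
  {aY : AlgGrp.Action G Y} {j : G ⊗ Z ⟶ Y}

/-- The object over the same base. -/
def fObj (hY : ChGrp.IsBalProd K i aZ aY j) (A : QuotObj K G aY) : QuotObj K H aZ where
  base := A.base
  P := pullback A.φ (iota j)
  act := fAct hY A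
  π := pullback.fst A.φ (iota j) ≫ A.π
  cart := fAct_cart hY A
  loc := fLoc hY A
  φ := pullback.snd A.φ (iota j)
  eqv := eqv_of_app fun h p => fAct_snd hY A h p

/-- The map of fibres. -/
def fTop {A B : QuotObj K G aY} (j : G ⊗ Z ⟶ Y) (m : A ⟶ B) :
    pullback A.φ (iota j) ⟶ pullback B.φ (iota j) :=
  pullback.lift (pullback.fst A.φ (iota j) ≫ m.top) (pullback.snd A.φ (iota j))
    (by rw [Category.assoc, m.wφ, pullback.condition])

theorem fTop_fst {A B : QuotObj K G aY} (m : A ⟶ B) :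
    fTop j m ≫ pullback.fst B.φ (iota j) = pullback.fst A.φ (iota j) ≫ m.top := pullback.lift_fst _ _ _

theorem fTop_snd {A B : QuotObj K G aY} (m : A ⟶ B) :
    fTop j m ≫ pullback.snd B.φ (iota j) = pullback.snd A.φ (iota j) := pullback.lift_snd _ _ _

/-- The map of objects. -/
def fMap (hK : K ≤ Scheme.fpqcPrecoverage) (hY : ChGrp.IsBalProd K i aZ aY j) {A B : QuotObj K G aY}
    (m : A ⟶ B) : fObj hY A ⟶ fObj hY B :=
  have e : (fAct hY A).act ≫ fTop j m = (H ◁ fTop j m) ≫ (fAct hY B).act := eqv_of_app fun h p => by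
    apply pullback.hom_ext
    · rw [fAct_fst, Category.assoc, fTop_fst, ← Category.assoc, fAct_fst, app_eqv m.eqv, Category.assoc,
        Category.assoc, fTop_fst]
    · rw [fAct_snd, Category.assoc, fTop_snd, fAct_snd, Category.assoc, fTop_snd]
  { base := m.base
    top := fTop j m
    eqv := e
    cart := isPullback_of_equivariant (fObj hY A).cart (fObj hY B).cart (imgSieve_mem hK (fObj hY A).loc)
      (by
        change fTop j m ≫ pullback.fst B.φ (iota j) ≫ B.π = (pullback.fst A.φ (iota j) ≫ A.π) ≫ m.base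
        rw [← Category.assoc, fTop_fst, Category.assoc, Category.assoc, m.cart.w]) e
    wφ := fTop_snd m }

/-- The functor to torsors of the subgroup. -/
def fiberFun (hK : K ≤ Scheme.fpqcPrecoverage) (hY : ChGrp.IsBalProd K i aZ aY j) :
    QuotSt K G aY ⥤ᵇ QuotSt K H aZ where
  toFunctor :=
    { obj := fObj hY
      map := fMap hK hY
      map_id := fun A => QuotObj.hom_ext rfl (pullback.hom_ext
        (by
          change fTop j (𝟙 A) ≫ pullback.fst A.φ (iota j) = 𝟙 _ ≫ pullback.fst A.φ (iota j)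
          rw [fTop_fst]; simp)
        (by
          change fTop j (𝟙 A) ≫ pullback.snd A.φ (iota j) = 𝟙 _ ≫ pullback.snd A.φ (iota j)
          rw [fTop_snd]; simp))
      map_comp := fun {A B C} m n => QuotObj.hom_ext rfl (pullback.hom_ext
        (by
          change fTop j (m ≫ n) ≫ pullback.fst C.φ (iota j) = (fTop j m ≫ fTop j n) ≫ pullback.fst C.φ (iota j)
          rw [fTop_fst, Category.assoc, fTop_fst, ← Category.assoc, fTop_fst, Category.assoc]
          rfl)
        (by
          change fTop j (m ≫ n) ≫ pullback.snd C.φ (iota j) = (fTop j m ≫ fTop j n) ≫ pullback.snd C.φ (iota j)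
          rw [fTop_snd, Category.assoc, fTop_snd, fTop_snd])) }
  w := rfl

end Groth.Agent.QBal44
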