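import Groth.Agent.QBal44.Functor

/-!
The product with a homogeneous space is a balanced product.
-/

set_option autoImplicit false
set_option linter.style.haveILetI false
set_option backward.isDefEq.respectTransparency false
set_option backward.isDefEq.respectTransparency.types false
universe u

open CategoryTheory CategoryTheory.Limits MonoidalCategory CartesianMonoidalCategory MonObj GrpObj AlgebraicGeometry AlgSt

noncomputable section

namespace Groth.Agent.QBal44

variable {S : Scheme.{u}} {G H X Q : Over S} [GrpObj G] [GrpObj H]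

/-- The map from the product with the group. -/
def homJ (aX : AlgGrp.Action G X) (aQ : AlgGrp.Action G Q) (q₀ : 𝟙_ (Over S) ⟶ Q) : G ⊗ X ⟶ Q ⊗ X :=
  lift (fst G X ≫ aQ.orbitMap q₀) aX.act

theorem lift_homJ (aX : AlgGrp.Action G X) (aQ : AlgGrp.Action G Q) (q₀ : 𝟙_ (Over S) ⟶ Q) {T : Over S}
    (g : T ⟶ G) (x : T ⟶ X) :
    lift g x ≫ homJ aX aQ q₀ = lift (g ≫ aQ.orbitMap q₀) (app aX g x) := by
  rw [homJ, comp_lift, lift_fst_assoc]

theorem isBalProd_of_isHomog {K : Precoverage Scheme.{u}} [K.IsStableUnderBaseChange] {i : H ⟶ G} [IsMonHom i]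
    (aX : AlgGrp.Action G X) (aQ : AlgGrp.Action G Q) (q₀ : 𝟙_ (Over S) ⟶ Q) (hQ : ChGrp.IsHomog K i aQ q₀) :
    ChGrp.IsBalProd K i (aX.restrict i) (aQ.prod aX) (homJ aX aQ q₀) := by
  obtain ⟨-, hc, hloc⟩ := hQ
  have horb : ∀ {T : Over S} (g g' : T ⟶ G), app aQ g (g' ≫ aQ.orbitMap q₀) = (g * g') ≫ aQ.orbitMap q₀ := by
    intro T g g'
    rw [aQ.comp_orbitMap, aQ.comp_orbitMap, app, ← aQ.lift_mul_act]
  have hrel : ∀ {T : Over S} (g : T ⟶ G) (h : T ⟶ H), (g * (h ≫ i)) ≫ aQ.orbitMap q₀ = g ≫ aQ.orbitMap q₀ := by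
    intro T g h
    have e := congrArg (lift g h ≫ ·) hc.w
    simp only [lift_fst_assoc] at e
    rw [e, ← Category.assoc (lift g h), lift_whiskerLeft_assoc, ← Hom.mul_def]
  refine ⟨eqv_of_app fun {T} g p => ?_, isPullback_of_points (AlgGrp.Action.hom_ext_lift₂ fun T h p => ?_)
    fun {T} a b e => ?_, ?_⟩
  · obtain ⟨g', x, rfl⟩ : ∃ (g' : T ⟶ G) (x : T ⟶ X), p = lift g' x :=
      ⟨p ≫ fst _ _, p ≫ snd _ _, by rw [← comp_lift, lift_fst_snd, Category.comp_id]⟩
    rw [app, AlgGrp.Action.lift_prod_act]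
    change lift (lift g g' ≫ μ[G]) (lift g x ≫ snd G X) ≫ _ = _
    rw [← Hom.mul_def, lift_snd, lift_homJ, lift_homJ, app, app, AlgGrp.Action.lift_prod_act, ← aX.lift_mul_act]
    exact congrArg (fun t => lift t _) (horb g g').symm
  · obtain ⟨g', x, rfl⟩ : ∃ (g' : T ⟶ G) (x : T ⟶ X), p = lift g' x :=
      ⟨p ≫ fst _ _, p ≫ snd _ _, by rw [← comp_lift, lift_fst_snd, Category.comp_id]⟩
    rw [← Category.assoc, ChGrp.lift_twist_act, lift_snd_assoc, lift_homJ, lift_homJ, aX.lift_restrict_act i, app,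
      ← aX.lift_mul_act, inv_mul_cancel_right, ← hrel g' (h⁻¹)]
    rw [GrpObj.inv_comp]
  · obtain ⟨g, x, rfl⟩ : ∃ (g : T ⟶ G) (x : T ⟶ X), a = lift g x :=
      ⟨a ≫ fst _ _, a ≫ snd _ _, by rw [← comp_lift, lift_fst_snd, Category.comp_id]⟩
    obtain ⟨g', x', rfl⟩ : ∃ (g : T ⟶ G) (x : T ⟶ X), b = lift g x :=
      ⟨b ≫ fst _ _, b ≫ snd _ _, by rw [← comp_lift, lift_fst_snd, Category.comp_id]⟩
    rw [lift_homJ, lift_homJ] at e
    have e1 : g ≫ aQ.orbitMap q₀ = g' ≫ aQ.orbitMap q₀ := by simpa using congrArg (· ≫ fst Q X) e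
    have e2 : app aX g x = app aX g' x' := by simpa using congrArg (· ≫ snd Q X) e
    let l := hc.lift g g' e1
    have l1 : l ≫ fst G H = g := hc.lift_fst _ _ _
    have l2 : g * ((l ≫ snd G H) ≫ i) = g' := by
      have h : l ≫ (G ◁ i) ≫ μ[G] = g' := hc.lift_snd g g' e1
      have el : lift (l ≫ fst G H) (l ≫ snd G H) = l := by rw [← comp_lift, lift_fst_snd, Category.comp_id]
      rw [← el, lift_whiskerLeft_assoc, ← Hom.mul_def, l1] at h
      exact h
    refine ⟨lift (l ≫ snd G H) (lift g' x'), ⟨?_, lift_snd _ _⟩, ?_⟩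
    · rw [ChGrp.lift_twist_act, aX.lift_restrict_act i]
      have hg : g' * ((l ≫ snd G H) ≫ i)⁻¹ = g := by rw [← l2, mul_inv_cancel_right]
      rw [hg]
      congr 1
      rw [← l2, app, app, aX.lift_mul_act] at e2
      have e3 := congrArg (app aX g⁻¹) e2
      change app aX g⁻¹ (app aX g x) = app aX g⁻¹ (app aX g _) at e3
      rw [app_inv_app, app_inv_app] at e3
      exact e3.symm
    · rintro m ⟨m1, m2⟩
      have em : m = lift (m ≫ fst H _) (lift g' x') := by
        rw [← m2, ← comp_lift, lift_fst_snd, Category.comp_id]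
      rw [em]
      congr 1
      rw [em, ChGrp.lift_twist_act] at m1
      have m3 : g' * ((m ≫ fst H _) ≫ i)⁻¹ = g := by simpa using congrArg (· ≫ fst G X) m1
      have m4 : lift g (m ≫ fst H _) = l := by
        apply hc.hom_ext
        · rw [lift_fst, l1]
        · rw [lift_whiskerLeft_assoc, ← Hom.mul_def, ← m3, inv_mul_cancel_right]
          exact (hc.lift_snd g g' e1).symm
      rw [← m4, lift_snd]
  · refine isLocallyTrivialFor_pullback (IsPullback.map (Over.forget S)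
      (show IsPullback (fst G X) (homJ aX aQ q₀) (aQ.orbitMap q₀) (fst Q X) from
        isPullback_of_points (lift_fst _ _).symm fun {T} a b e => ?_)) hloc
    refine ⟨lift a (app aX a⁻¹ (b ≫ snd Q X)), ⟨lift_fst _ _, ?_⟩, ?_⟩
    · rw [lift_homJ, app_app_inv, e, ← comp_lift, lift_fst_snd, Category.comp_id]
    · rintro m ⟨rfl, rfl⟩
      have em : m = lift (m ≫ fst G X) (m ≫ snd G X) := by rw [← comp_lift, lift_fst_snd, Category.comp_id]
      conv_lhs => rw [em]
      congr 1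
      rw [homJ, Category.assoc, lift_snd]
      have e2 : m ≫ aX.act = app aX (m ≫ fst G X) (m ≫ snd G X) := congrArg (· ≫ aX.act) em
      rw [e2, app_inv_app]

end Groth.Agent.QBal44
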